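import Cfsg.Agent.HSRecog.Cert0.CheckSteps0
import Cfsg.Agent.HSRecog.Cert0.CheckCover
import Cfsg.Agent.HSRecog.Cert0.CheckNodes0

/-! Generated by tools/dcoset/emit.py: assembled certificate. -/

set_option Elab.async false
set_option maxRecDepth 100000

namespace Cfsg.Agent.HSRecog.Cert0

open Cfsg.Agent.DCoset Cfsg.Agent.CosetCert

theorem steps_ok : ∀ s, s < steps.len → Steps.check steps rules tab s = true := by
  intro s hs
  have h : allFrom (Steps.check steps rules tab) 0 605 = true :=
    (allFrom_append 500 (allFrom_append 250 steps_0 steps_1) steps_2)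
  exact allFrom_all h hs

theorem node_src : ∀ j, 1 ≤ j → j < steps.nNode → steps.nodeSrc j < j := fun j h1 h2 =>
  Nat.ble_eq.mp ((allFrom_iff _ _ _).1 src_all j h1 (by change j < 5 at h2; omega))

/-- The sum of the suborbit lengths. -/
theorem idx_sum : ((List.range cover.nLive).map cover.idx).sum = 1 := by
  decide +kernel

theorem valid : cover.Valid steps rules tab 10752 where
  nP_pos := by decide
  live_zero := ⟨by decide, by decide +kernel⟩
  u_ok l hl := allFrom_all u_all hl
  tr_ok c hc := allFrom_all tr_all hc
  stab_ok m a hm ha := allFrom_all (allFrom_all stab_all hm : allFrom _ 0 (nStab m) = true) ha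
  point_ok m c hm hc := by
    change m < 1 at hm
    interval_cases m
    · exact allFrom_all point_0 hc
  chain_gen m l a hm hl ha := by
    change m < 1 at hm
    interval_cases m
    · exact allFrom_all (allFrom_all gen_0 hl : _) ha
  chain_pt m l j hm hl hj := by
    change m < 1 at hm
    interval_cases m
    · exact allFrom_all (allFrom_all pt_0 hl : _) hj
  chain_mem m l a hm hl ha := by
    refine ⟨chOff (m * 3 + l) + a, ?_, rfl⟩
    have h := Nat.ble_eq.mp (allFrom_all (allFrom_all bounds_all hm : allFrom _ 0 3 = true) hl)
    change a < chCnt (m * 3 + l) at ha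
    change chOff (m * 3 + l) + chCnt (m * 3 + l) ≤ nStab m at h
    change chOff (m * 3 + l) + a < nStab m
    omega
  idx_eq := by
    intro m hm
    change m < 1 at hm
    interval_cases m
    · decide +kernel

end Cfsg.Agent.HSRecog.Cert0
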