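import Cfsg.Agent.HSRecog.Cert0.RuleData

/-! Generated by tools/dcoset/emit.py: step words. -/

set_option Elab.async false

namespace Cfsg.Agent.HSRecog.Cert0

open Cfsg.Agent.DCoset Cfsg.Agent.CosetCert

def argWS_1 : Store := (.node 9 (.node 4 (.node 2 (.node 1 (.leaf 0x1) (.leaf 0x20001)) (.node 3 (.leaf 0x40001) (.leaf 0x60001))) (.node 6 (.node 5 (.leaf 0x20001) (.leaf 0x0)) (.node 7 (.leaf 0x20001) (.node 8 (.leaf 0x0) (.leaf 0x1))))) (.node 13 (.node 11 (.node 10 (.leaf 0x0) (.leaf 0x40001)) (.node 12 (.leaf 0x0) (.leaf 0x20001))) (.node 15 (.node 14 (.leaf 0x0) (.leaf 0x1)) (.node 16 (.leaf 0x0) (.node 17 (.leaf 0x1) (.leaf 0x0))))))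

def argWS_2 : Store := (.node 27 (.node 22 (.node 20 (.node 19 (.leaf 0x60002) (.leaf 0x0)) (.node 21 (.leaf 0x20001) (.leaf 0x0))) (.node 24 (.node 23 (.leaf 0x2060002) (.leaf 0x0)) (.node 25 (.leaf 0x1) (.node 26 (.leaf 0x0) (.leaf 0x40002))))) (.node 32 (.node 29 (.node 28 (.leaf 0x0) (.leaf 0x40002)) (.node 30 (.leaf 0x0) (.node 31 (.leaf 0x4020003) (.leaf 0x0)))) (.node 34 (.node 33 (.leaf 0x60001) (.leaf 0x0)) (.node 35 (.leaf 0x10604020004) (.node 36 (.leaf 0x0) (.leaf 0x20001))))))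

def argWS_3 : Store := (.node 18 argWS_1 argWS_2)

def argWS_4 : Store := (.node 46 (.node 41 (.node 39 (.node 38 (.leaf 0x0) (.leaf 0x2040002)) (.node 40 (.leaf 0x0) (.leaf 0x40001))) (.node 43 (.node 42 (.leaf 0x0) (.leaf 0x4020002)) (.node 44 (.leaf 0x0) (.node 45 (.leaf 0x4020002) (.leaf 0x0))))) (.node 51 (.node 48 (.node 47 (.leaf 0x2040002) (.leaf 0x0)) (.node 49 (.leaf 0x60002) (.node 50 (.leaf 0x0) (.leaf 0x6020003)))) (.node 53 (.node 52 (.leaf 0x0) (.leaf 0x60001)) (.node 54 (.leaf 0x0) (.node 55 (.leaf 0x10001) (.leaf 0x0))))))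

def argWS_5 : Store := (.node 65 (.node 60 (.node 58 (.node 57 (.leaf 0x10001) (.leaf 0x0)) (.node 59 (.leaf 0x1040002) (.leaf 0x0))) (.node 62 (.node 61 (.leaf 0x60002) (.leaf 0x0)) (.node 63 (.leaf 0x6020003) (.node 64 (.leaf 0x0) (.leaf 0x10604020004))))) (.node 70 (.node 67 (.node 66 (.leaf 0x0) (.leaf 0x1050306030005)) (.node 68 (.leaf 0x0) (.node 69 (.leaf 0x2040002) (.leaf 0x0)))) (.node 72 (.node 71 (.leaf 0x303040003) (.leaf 0x0)) (.node 73 (.leaf 0x6020003) (.node 74 (.leaf 0x0) (.leaf 0x200020006020402060303000b))))))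

def argWS_6 : Store := (.node 56 argWS_4 argWS_5)

def argWS_7 : Store := (.node 37 argWS_3 argWS_6)

def argWS_8 : Store := (.node 84 (.node 79 (.node 77 (.node 76 (.leaf 0x0) (.leaf 0x303040003)) (.node 78 (.leaf 0x0) (.leaf 0x303010306030006))) (.node 81 (.node 80 (.leaf 0x0) (.leaf 0x303010306030006)) (.node 82 (.leaf 0x0) (.node 83 (.leaf 0x60000020002060202060304000c) (.leaf 0x0))))) (.node 89 (.node 86 (.node 85 (.leaf 0x200020006020402060303000b) (.leaf 0x0)) (.node 87 (.leaf 0x40300000306040007) (.node 88 (.leaf 0x0) (.leaf 0x4020002)))) (.node 91 (.node 90 (.leaf 0x0) (.leaf 0x206050003)) (.node 92 (.leaf 0x0) (.node 93 (.leaf 0x1050306030005) (.leaf 0x0))))))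

def argWS_9 : Store := (.node 103 (.node 98 (.node 96 (.node 95 (.leaf 0x1020103050306030008) (.leaf 0x0)) (.node 97 (.leaf 0x6020003) (.leaf 0x0))) (.node 100 (.node 99 (.leaf 0x4000200030604020008) (.leaf 0x0)) (.node 101 (.leaf 0x60001) (.node 102 (.leaf 0x0) (.leaf 0x6040003))))) (.node 108 (.node 105 (.node 104 (.leaf 0x0) (.leaf 0x206050003)) (.node 106 (.leaf 0x0) (.node 107 (.leaf 0x10300030503060007) (.leaf 0x0)))) (.node 110 (.node 109 (.leaf 0x6040003) (.leaf 0x0)) (.node 111 (.leaf 0x6050004) (.node 112 (.leaf 0x0) (.leaf 0x2060002))))))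

def argWS_10 : Store := (.node 94 argWS_8 argWS_9)

def argWS_11 : Store := (.node 122 (.node 117 (.node 115 (.node 114 (.leaf 0x0) (.leaf 0x50000020002060202060304000c)) (.node 116 (.leaf 0x0) (.leaf 0x1040002))) (.node 119 (.node 118 (.leaf 0x0) (.leaf 0x3010301060005)) (.node 120 (.leaf 0x0) (.node 121 (.leaf 0x10300030503060007) (.leaf 0x0))))) (.node 127 (.node 124 (.node 123 (.leaf 0x400030002060402060303000b) (.leaf 0x0)) (.node 125 (.leaf 0x40300000306040007) (.node 126 (.leaf 0x0) (.leaf 0x403000006020605030009)))) (.node 129 (.node 128 (.leaf 0x0) (.leaf 0x4000200030604020008)) (.node 130 (.leaf 0x0) (.node 131 (.leaf 0x3060002000605030008) (.leaf 0x0))))))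

def argWS_12 : Store := (.node 141 (.node 136 (.node 134 (.node 133 (.leaf 0x0) (.leaf 0x6000301020603030008)) (.node 135 (.leaf 0x6000301020603030008) (.leaf 0x0))) (.node 138 (.node 137 (.leaf 0x0) (.leaf 0x402040003)) (.node 139 (.leaf 0x402040003) (.node 140 (.leaf 0x0) (.leaf 0x20001))))) (.node 146 (.node 143 (.node 142 (.leaf 0x0) (.leaf 0x2000002)) (.node 144 (.leaf 0x0) (.node 145 (.leaf 0x20001) (.leaf 0x0)))) (.node 148 (.node 147 (.leaf 0x2020002) (.leaf 0x0)) (.node 149 (.leaf 0x202040003) (.node 150 (.leaf 0x0) (.leaf 0x200020003))))))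

def argWS_13 : Store := (.node 132 argWS_11 argWS_12)

def argWS_14 : Store := (.node 113 argWS_10 argWS_13)

def argWS_15 : Store := (.node 75 argWS_7 argWS_14)

def argWS_16 : Store := (.node 160 (.node 155 (.node 153 (.node 152 (.leaf 0x0) (.leaf 0x200020003)) (.node 154 (.leaf 0x0) (.leaf 0x2000002))) (.node 157 (.node 156 (.leaf 0x0) (.leaf 0x200040003)) (.node 158 (.leaf 0x0) (.node 159 (.leaf 0x20004020004) (.leaf 0x0))))) (.node 164 (.node 162 (.node 161 (.leaf 0x2000402040005) (.leaf 0x0)) (.node 163 (.leaf 0x20002020004) (.leaf 0x0))) (.node 166 (.node 165 (.leaf 0x20002000004) (.leaf 0x0)) (.node 167 (.leaf 0x3040002) (.node 168 (.leaf 0x0) (.leaf 0x0))))))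

def argWS_17 : Store := (.node 178 (.node 173 (.node 171 (.node 170 (.leaf 0x0) (.leaf 0x300040003)) (.node 172 (.leaf 0x0) (.leaf 0x0))) (.node 175 (.node 174 (.leaf 0x3010303050005) (.leaf 0x300050003)) (.node 176 (.leaf 0x0) (.node 177 (.leaf 0xb09080d0004) (.leaf 0x0))))) (.node 183 (.node 180 (.node 179 (.leaf 0x0) (.leaf 0x2000200020005)) (.node 181 (.leaf 0x0) (.node 182 (.leaf 0x0) (.leaf 0x4030104030005)))) (.node 185 (.node 184 (.leaf 0x200020002060006) (.leaf 0x0)) (.node 186 (.leaf 0xb0f0c0a0004) (.node 187 (.leaf 0x0) (.leaf 0x0))))))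

def argWS_18 : Store := (.node 169 argWS_16 argWS_17)

def argWS_19 : Store := (.node 197 (.node 192 (.node 190 (.node 189 (.leaf 0x0) (.leaf 0x0)) (.node 191 (.leaf 0x104020603030006) (.leaf 0x0))) (.node 194 (.node 193 (.leaf 0x0) (.leaf 0x403000002060305030603000b)) (.node 195 (.leaf 0x104020603030006) (.node 196 (.leaf 0x0) (.leaf 0x103000002060202060305000b))))) (.node 202 (.node 199 (.node 198 (.leaf 0x0) (.leaf 0x104020603030006)) (.node 200 (.leaf 0x0) (.node 201 (.leaf 0x2020603050007) (.leaf 0x0)))) (.node 204 (.node 203 (.leaf 0x403000002060305030603000b) (.leaf 0x0)) (.node 205 (.leaf 0x2020603040007) (.node 206 (.leaf 0x0) (.leaf 0x403000002060305030603000b))))))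

def argWS_20 : Store := (.node 216 (.node 211 (.node 209 (.node 208 (.leaf 0x0) (.leaf 0x103000002060202060305000b)) (.node 210 (.leaf 0x0) (.leaf 0x50102000003060305030603000c))) (.node 213 (.node 212 (.leaf 0x0) (.leaf 0x104020603030006)) (.node 214 (.leaf 0x0) (.node 215 (.leaf 0x6030604020006) (.leaf 0x0))))) (.node 221 (.node 218 (.node 217 (.leaf 0x0) (.leaf 0x50102000003060305030603000c)) (.node 219 (.leaf 0x0) (.node 220 (.leaf 0xa0b0002) (.leaf 0x30001)))) (.node 223 (.node 222 (.leaf 0x0) (.leaf 0x0)) (.node 224 (.leaf 0x3000002060005) (.node 225 (.leaf 0x0) (.leaf 0xc090f0a0e0005))))))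

def argWS_21 : Store := (.node 207 argWS_19 argWS_20)

def argWS_22 : Store := (.node 188 argWS_18 argWS_21)

def argWS_23 : Store := (.node 235 (.node 230 (.node 228 (.node 227 (.leaf 0x30001) (.leaf 0x0)) (.node 229 (.leaf 0x0) (.leaf 0x50002))) (.node 232 (.node 231 (.leaf 0x0) (.leaf 0x0)) (.node 233 (.leaf 0x403000002060006) (.node 234 (.leaf 0x20603030004) (.leaf 0x0))))) (.node 240 (.node 237 (.node 236 (.leaf 0xc090c0a0004) (.leaf 0x30001)) (.node 238 (.leaf 0x0) (.node 239 (.leaf 0x0) (.leaf 0x0)))) (.node 242 (.node 241 (.leaf 0x0) (.leaf 0x40200000206030007)) (.node 243 (.leaf 0x0) (.node 244 (.leaf 0x0) (.leaf 0x30604020006))))))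

def argWS_24 : Store := (.node 254 (.node 249 (.node 247 (.node 246 (.leaf 0x0) (.leaf 0x0)) (.node 248 (.leaf 0x4020000030603060402000a) (.leaf 0xb080d0a0004))) (.node 251 (.node 250 (.leaf 0x0) (.leaf 0x1030002)) (.node 252 (.leaf 0x3060002000402050008) (.node 253 (.leaf 0x0) (.leaf 0x7070f0c0d0005))))) (.node 259 (.node 256 (.node 255 (.leaf 0x0) (.leaf 0xb090f0e0a0005)) (.node 257 (.leaf 0xff0000fe) (.node 258 (.leaf 0x0) (.leaf 0x3000002020605030008)))) (.node 261 (.node 260 (.leaf 0x3030000030602040008) (.leaf 0x0)) (.node 262 (.leaf 0x0) (.node 263 (.leaf 0x0) (.leaf 0xc0001))))))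

def argWS_25 : Store := (.node 245 argWS_23 argWS_24)

def argWS_26 : Store := (.node 273 (.node 268 (.node 266 (.node 265 (.leaf 0x0) (.leaf 0x40200000206030007)) (.node 267 (.leaf 0x0) (.leaf 0xa0b0a0003))) (.node 270 (.node 269 (.leaf 0x20001) (.leaf 0x0)) (.node 271 (.leaf 0x0) (.node 272 (.leaf 0x0) (.leaf 0x1040002))))) (.node 278 (.node 275 (.node 274 (.leaf 0x2010406030503060009) (.leaf 0x0)) (.node 276 (.leaf 0xb090f0003) (.node 277 (.leaf 0x0) (.leaf 0x0)))) (.node 280 (.node 279 (.leaf 0x0) (.leaf 0x30001)) (.node 281 (.leaf 0x0) (.node 282 (.leaf 0x304020603030006) (.leaf 0x20001))))))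

def argWS_27 : Store := (.node 292 (.node 287 (.node 285 (.node 284 (.leaf 0x0) (.leaf 0x0)) (.node 286 (.leaf 0x0) (.leaf 0xd0a0002))) (.node 289 (.node 288 (.leaf 0x30602020603040007) (.leaf 0x0)) (.node 290 (.leaf 0xb070d0003) (.node 291 (.leaf 0x0) (.leaf 0x602000306040006))))) (.node 297 (.node 294 (.node 293 (.leaf 0x401030102060402060303000b) (.leaf 0x0)) (.node 295 (.leaf 0x80f0e0a0004) (.node 296 (.leaf 0x0) (.leaf 0x127)))) (.node 299 (.node 298 (.leaf 0x0) (.leaf 0x202000002060202020603000b)) (.node 300 (.leaf 0x500000201030006) (.node 301 (.leaf 0x0) (.leaf 0x0))))))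

def argWS_28 : Store := (.node 283 argWS_26 argWS_27)

def argWS_29 : Store := (.node 264 argWS_25 argWS_28)

def argWS_30 : Store := (.node 226 argWS_22 argWS_29)

def argWS_31 : Store := (.node 151 argWS_15 argWS_30)

def argWS_32 : Store := (.node 311 (.node 306 (.node 304 (.node 303 (.leaf 0x0) (.leaf 0x80f0c0d0004)) (.node 305 (.leaf 0x30602020603040007) (.leaf 0x0))) (.node 308 (.node 307 (.leaf 0x0) (.leaf 0x0)) (.node 309 (.leaf 0x40001) (.node 310 (.leaf 0x0) (.leaf 0xa0b090f0c0d0006))))) (.node 315 (.node 313 (.node 312 (.leaf 0x301030003) (.leaf 0x0)) (.node 314 (.leaf 0x0) (.leaf 0x0))) (.node 317 (.node 316 (.leaf 0x0) (.leaf 0x6020603030007)) (.node 318 (.leaf 0x9080d0a0004) (.node 319 (.leaf 0xb090f0c0a0005) (.leaf 0x0))))))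

def argWS_33 : Store := (.node 329 (.node 324 (.node 322 (.node 321 (.leaf 0x202000002060202020603000b) (.leaf 0x1030602020603040008)) (.node 323 (.leaf 0x0) (.leaf 0xb070f0e0004))) (.node 326 (.node 325 (.leaf 0x0) (.leaf 0x14400013e)) (.node 327 (.leaf 0x0) (.node 328 (.leaf 0x3000002020605030008) (.leaf 0x2010604020603030008))))) (.node 334 (.node 331 (.node 330 (.leaf 0x0) (.leaf 0x0)) (.node 332 (.leaf 0x0) (.node 333 (.leaf 0x7070f0d0004) (.leaf 0x0)))) (.node 336 (.node 335 (.leaf 0x300000603050006) (.leaf 0x200000206020402060303000b)) (.node 337 (.leaf 0x0) (.node 338 (.leaf 0xb090f0e0004) (.leaf 0x0))))))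

def argWS_34 : Store := (.node 320 argWS_32 argWS_33)

def argWS_35 : Store := (.node 348 (.node 343 (.node 341 (.node 340 (.leaf 0x0) (.leaf 0x4020603030007)) (.node 342 (.leaf 0x4020002060202060304000a) (.leaf 0x0))) (.node 345 (.node 344 (.leaf 0x9080a0003) (.leaf 0x0)) (.node 346 (.leaf 0x158) (.node 347 (.leaf 0x0) (.leaf 0x602020603050008))))) (.node 353 (.node 350 (.node 349 (.leaf 0x5000002010303060402000a) (.leaf 0x0)) (.node 351 (.leaf 0x0) (.node 352 (.leaf 0x0) (.leaf 0xe0a0002)))) (.node 355 (.node 354 (.leaf 0x0) (.leaf 0x0)) (.node 356 (.leaf 0x300000603050006) (.node 357 (.leaf 0x3000602020603030008) (.leaf 0x0))))))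

def argWS_36 : Store := (.node 367 (.node 362 (.node 360 (.node 359 (.leaf 0x0) (.leaf 0x0)) (.node 361 (.leaf 0xb070e0003) (.leaf 0x0))) (.node 364 (.node 363 (.leaf 0x0) (.leaf 0xb090f0e0004)) (.node 365 (.leaf 0x30001) (.node 366 (.leaf 0x0) (.leaf 0x0))))) (.node 372 (.node 369 (.node 368 (.leaf 0x4020000030603060402000a) (.leaf 0x0)) (.node 370 (.leaf 0xb090f0003) (.node 371 (.leaf 0x30001) (.leaf 0x0)))) (.node 374 (.node 373 (.leaf 0x0) (.leaf 0x0)) (.node 375 (.leaf 0x0) (.node 376 (.leaf 0x604020603030006) (.leaf 0x0))))))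

def argWS_37 : Store := (.node 358 argWS_35 argWS_36)

def argWS_38 : Store := (.node 339 argWS_34 argWS_37)

def argWS_39 : Store := (.node 386 (.node 381 (.node 379 (.node 378 (.leaf 0x0) (.leaf 0x602020603040006)) (.node 380 (.leaf 0xf0e0c0003) (.leaf 0x0))) (.node 383 (.node 382 (.leaf 0x200000206030007) (.leaf 0x1030102060202020603000a)) (.node 384 (.leaf 0x0) (.node 385 (.leaf 0xc090f0e0a0005) (.leaf 0x0))))) (.node 391 (.node 388 (.node 387 (.leaf 0x0) (.leaf 0x30604020006)) (.node 389 (.leaf 0x2020000060202060303000a) (.node 390 (.leaf 0x0) (.leaf 0xa0b0a0003)))) (.node 393 (.node 392 (.leaf 0x0) (.leaf 0x187000181)) (.node 394 (.leaf 0x602020603040006) (.node 395 (.leaf 0x0) (.leaf 0x0))))))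

def argWS_40 : Store := (.node 405 (.node 400 (.node 398 (.node 397 (.leaf 0x3050306030005) (.leaf 0x20000020605030007)) (.node 399 (.leaf 0x0) (.leaf 0x0))) (.node 402 (.node 401 (.leaf 0x0) (.leaf 0x90f0c0a0004)) (.node 403 (.leaf 0x0) (.node 404 (.leaf 0x6030604020005) (.leaf 0x0))))) (.node 410 (.node 407 (.node 406 (.leaf 0x0) (.leaf 0x602020603040006)) (.node 408 (.leaf 0x6020605030005) (.node 409 (.leaf 0x0) (.leaf 0xf0e0002)))) (.node 412 (.node 411 (.leaf 0x30001) (.leaf 0x0)) (.node 413 (.leaf 0x0) (.node 414 (.leaf 0xa0b090f0e0a0006) (.leaf 0x0))))))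

def argWS_41 : Store := (.node 396 argWS_39 argWS_40)

def argWS_42 : Store := (.node 424 (.node 419 (.node 417 (.node 416 (.leaf 0x0) (.leaf 0x20001)) (.node 418 (.leaf 0x2000006020206030008) (.leaf 0x0))) (.node 421 (.node 420 (.leaf 0x200000003) (.leaf 0x0)) (.node 422 (.leaf 0x0) (.node 423 (.leaf 0x202020603050008) (.leaf 0x30001))))) (.node 429 (.node 426 (.node 425 (.leaf 0x0) (.leaf 0x0)) (.node 427 (.leaf 0x0) (.node 428 (.leaf 0xa0b0e0003) (.leaf 0x0)))) (.node 431 (.node 430 (.leaf 0x0) (.leaf 0x0)) (.node 432 (.leaf 0x20001) (.node 433 (.leaf 0x3000006020206030008) (.leaf 0x0))))))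

def argWS_43 : Store := (.node 443 (.node 438 (.node 436 (.node 435 (.leaf 0x0) (.leaf 0x206050003)) (.node 437 (.leaf 0x303000006020206030009) (.leaf 0x0))) (.node 440 (.node 439 (.leaf 0x0) (.leaf 0x0)) (.node 441 (.leaf 0x90f0c0003) (.node 442 (.leaf 0xc090002) (.leaf 0x0))))) (.node 448 (.node 445 (.node 444 (.leaf 0x0) (.leaf 0x0)) (.node 446 (.leaf 0x0) (.node 447 (.leaf 0x0) (.leaf 0x0)))) (.node 450 (.node 449 (.leaf 0x3030000060202050008) (.leaf 0x30602020603040007)) (.node 451 (.leaf 0x0) (.node 452 (.leaf 0x402000006020202060304000b) (.leaf 0x0))))))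

def argWS_44 : Store := (.node 434 argWS_42 argWS_43)

def argWS_45 : Store := (.node 415 argWS_41 argWS_44)

def argWS_46 : Store := (.node 377 argWS_38 argWS_45)

def argWS_47 : Store := (.node 462 (.node 457 (.node 455 (.node 454 (.leaf 0x0) (.leaf 0x403000006030503060009)) (.node 456 (.leaf 0x2010002) (.leaf 0x0))) (.node 459 (.node 458 (.leaf 0x0) (.leaf 0x0)) (.node 460 (.leaf 0xb0f0c0a0004) (.node 461 (.leaf 0x0) (.leaf 0x30604020006))))) (.node 467 (.node 464 (.node 463 (.leaf 0x0) (.leaf 0x3000002060402060303000a)) (.node 465 (.leaf 0x0) (.node 466 (.leaf 0x0) (.leaf 0x30604020006)))) (.node 469 (.node 468 (.leaf 0x30604020004) (.leaf 0x0)) (.node 470 (.leaf 0x90001) (.node 471 (.leaf 0x3010002) (.leaf 0x0))))))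

def argWS_48 : Store := (.node 481 (.node 476 (.node 474 (.node 473 (.leaf 0x0) (.leaf 0x30604020006)) (.node 475 (.leaf 0x0) (.leaf 0x4020000040202020603000a))) (.node 478 (.node 477 (.leaf 0x0) (.leaf 0x30602020603040007)) (.node 479 (.leaf 0x0) (.node 480 (.leaf 0x402000006020006) (.leaf 0x0))))) (.node 486 (.node 483 (.node 482 (.leaf 0x0) (.leaf 0x200000306030503060009)) (.node 484 (.leaf 0x402020206030006) (.node 485 (.leaf 0x0) (.leaf 0xb09070f0e0c0006)))) (.node 488 (.node 487 (.leaf 0x3010002) (.leaf 0x0)) (.node 489 (.leaf 0x0) (.node 490 (.leaf 0x4020000040202020603000a) (.leaf 0x0))))))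

def argWS_49 : Store := (.node 472 argWS_47 argWS_48)

def argWS_50 : Store := (.node 500 (.node 495 (.node 493 (.node 492 (.leaf 0x0) (.leaf 0x4030000040202060503000a)) (.node 494 (.leaf 0x201030003) (.leaf 0x0))) (.node 497 (.node 496 (.leaf 0xb080f0003) (.leaf 0x0)) (.node 498 (.leaf 0x0) (.node 499 (.leaf 0x0) (.leaf 0x0))))) (.node 505 (.node 502 (.node 501 (.leaf 0x300050306030007) (.leaf 0x0)) (.node 503 (.leaf 0x3000006020206030008) (.node 504 (.leaf 0x0) (.leaf 0x0)))) (.node 507 (.node 506 (.leaf 0x206050003) (.leaf 0x30001)) (.node 508 (.leaf 0x0) (.node 509 (.leaf 0x0) (.leaf 0x0))))))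

def argWS_51 : Store := (.node 519 (.node 514 (.node 512 (.node 511 (.leaf 0xf0e0002) (.leaf 0x40300000206040007)) (.node 513 (.leaf 0x0) (.leaf 0x0))) (.node 516 (.node 515 (.leaf 0x0) (.leaf 0x50002000002060007)) (.node 517 (.leaf 0x30604020006) (.node 518 (.leaf 0x0) (.leaf 0x304020603030008))))) (.node 524 (.node 521 (.node 520 (.leaf 0x0) (.leaf 0x0)) (.node 522 (.leaf 0x40001) (.node 523 (.leaf 0x6020006020206030008) (.leaf 0x0)))) (.node 526 (.node 525 (.leaf 0x0) (.leaf 0x0)) (.node 527 (.leaf 0xf0e0c0003) (.node 528 (.leaf 0x0) (.leaf 0x0))))))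

def argWS_52 : Store := (.node 510 argWS_50 argWS_51)

def argWS_53 : Store := (.node 491 argWS_49 argWS_52)

def argWS_54 : Store := (.node 538 (.node 533 (.node 531 (.node 530 (.leaf 0x602020605030007) (.leaf 0x60000020004020202060305000c)) (.node 532 (.leaf 0x0) (.leaf 0x0))) (.node 535 (.node 534 (.leaf 0x1020006050005) (.leaf 0x3010002)) (.node 536 (.leaf 0x0) (.node 537 (.leaf 0x0) (.leaf 0x0))))) (.node 543 (.node 540 (.node 539 (.leaf 0x9070f0e0004) (.leaf 0x30602020603040007)) (.node 541 (.leaf 0x0) (.node 542 (.leaf 0x0) (.leaf 0x0)))) (.node 545 (.node 544 (.leaf 0x0) (.leaf 0x300000603050006)) (.node 546 (.leaf 0x200000306020202060304000c) (.node 547 (.leaf 0x0) (.leaf 0xb09080c0004))))))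

def argWS_55 : Store := (.node 557 (.node 552 (.node 550 (.node 549 (.leaf 0x0) (.leaf 0x0)) (.node 551 (.leaf 0x0) (.leaf 0x0))) (.node 554 (.node 553 (.leaf 0x0) (.leaf 0x20002000602020007)) (.node 555 (.leaf 0x301020003) (.node 556 (.leaf 0x4000002000602020603000a) (.leaf 0x0))))) (.node 562 (.node 559 (.node 558 (.leaf 0x3000602020603030008) (.leaf 0x0)) (.node 560 (.leaf 0x0) (.node 561 (.leaf 0x0) (.leaf 0x4010301040005)))) (.node 564 (.node 563 (.leaf 0x0) (.leaf 0x500020000040202060303000b)) (.node 565 (.leaf 0x0) (.node 566 (.leaf 0x30000060202060303000a) (.leaf 0x0))))))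

def argWS_56 : Store := (.node 548 argWS_54 argWS_55)

def argWS_57 : Store := (.node 576 (.node 571 (.node 569 (.node 568 (.leaf 0x3030003060305030603000a) (.leaf 0x0)) (.node 570 (.leaf 0x20002000605030007) (.leaf 0x0))) (.node 573 (.node 572 (.leaf 0x0) (.leaf 0x301030602020605030009)) (.node 574 (.leaf 0x3010402020603030009) (.node 575 (.leaf 0x0) (.leaf 0x0))))) (.node 581 (.node 578 (.node 577 (.leaf 0x0) (.leaf 0xb0d0a0003)) (.node 579 (.leaf 0x0) (.node 580 (.leaf 0x0) (.leaf 0x0)))) (.node 583 (.node 582 (.leaf 0x0) (.leaf 0x102010206030603050306000b)) (.node 584 (.leaf 0x30001) (.node 585 (.leaf 0x40300000503060007) (.leaf 0x0))))))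

def argWS_58 : Store := (.node 595 (.node 590 (.node 588 (.node 587 (.leaf 0x0) (.leaf 0x0)) (.node 589 (.leaf 0x0) (.leaf 0x20001))) (.node 592 (.node 591 (.leaf 0x0) (.leaf 0x2000002)) (.node 593 (.leaf 0x0) (.node 594 (.leaf 0x200020003) (.leaf 0x0))))) (.node 600 (.node 597 (.node 596 (.leaf 0x20002020004) (.leaf 0x0)) (.node 598 (.leaf 0x0) (.node 599 (.leaf 0x301060206030503060009) (.leaf 0x10301060202050007)))) (.node 602 (.node 601 (.leaf 0x0) (.leaf 0x0)) (.node 603 (.leaf 0x0) (.node 604 (.leaf 0x70a0e0003) (.leaf 0x0))))))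

def argWS_59 : Store := (.node 586 argWS_57 argWS_58)

def argWS_60 : Store := (.node 567 argWS_56 argWS_59)

def argWS_61 : Store := (.node 529 argWS_53 argWS_60)

def argWS_62 : Store := (.node 453 argWS_46 argWS_61)

def argWS : Store := (.node 302 argWS_31 argWS_62)

def nodeSrcS : Store := (.leaf 0x20001000100000000)

noncomputable def nodeSrc : Nat → Nat := get16 nodeSrcS

def nodeWS : Store := (.node 2 (.node 1 (.leaf 0x0) (.leaf 0x0)) (.node 3 (.leaf 0x30001) (.node 4 (.leaf 0x301030003) (.leaf 0x30001))))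

def nodeTS : Store := (.leaf 0x10001000100010000)

noncomputable def nodeT : Nat → Nat := get16 nodeTS


end Cfsg.Agent.HSRecog.Cert0
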